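import Cfsg.Agent.H442.RC.ExDef

/-!
# S3510, triality type ii (helper499): box TWO, `q = 2`

Over the field with two elements the Okubo algebra has exactly nine elements `v ≠ 0` with `v ⋄ v = 0`; an automorphism of
order prime to `6` fixes one of them.
-/

set_option autoImplicit false
open Cfsg

namespace Cfsg.Agent.H499.RC

open Module QuadraticMap Cfsg.Agent.LieClassical.OrthCore Cfsg.Agent.LieClassical.OrthTrans
  Cfsg.Agent.LieClassical.OrthSimple Cfsg.Agent.ClassicalGeometry.OrthAut1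
  Cfsg.Agent.ClassicalGeometry.OrthSemi Cfsg.Agent.H198.Classes
  Cfsg.Agent.LieClassical.QuadForms Cfsg.Agent.H198.ClassesPlus
  Cfsg.Agent.ClassicalGeometry.TrialityOct Cfsg.Agent.ClassicalGeometry.Triality
  Cfsg.Agent.ClassicalGeometry.TrialitySpaces Cfsg.Agent.H198.TriBase Cfsg.Agent.H198.TriAut
  Cfsg.Agent.H206.Balance Cfsg.Agent.H198.BalVar Cfsg.Agent.H198.TriDia Cfsg.Agent.H198.TriSpec
  Cfsg.Agent.H198.TriPhi Cfsg.Agent.H442.RC.TriB

universe u

/-- the coordinate equations of `v ⋄ v = 0` -/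
def Z8 {R : Type*} [CommRing R] (v : Fin 4 ⊕ Fin 4 → R) : Prop :=
  v (.inr 0) * v (.inr 0) - (v (.inl 2) * v (.inr 3) + v (.inl 3) * v (.inr 1) + v (.inl 1) * v (.inr 2)) = 0 ∧
  v (.inr 0) * v (.inl 3) + v (.inl 0) * v (.inl 2) + (v (.inr 3) * v (.inr 2) - v (.inr 1) * v (.inr 1)) = 0 ∧
  v (.inr 0) * v (.inl 1) + v (.inl 0) * v (.inl 3) + (v (.inr 1) * v (.inr 3) - v (.inr 2) * v (.inr 2)) = 0 ∧
  v (.inr 0) * v (.inl 2) + v (.inl 0) * v (.inl 1) + (v (.inr 2) * v (.inr 1) - v (.inr 3) * v (.inr 3)) = 0 ∧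
  v (.inl 0) * v (.inl 0) - (v (.inr 2) * v (.inl 3) + v (.inr 3) * v (.inl 1) + v (.inr 1) * v (.inl 2)) = 0 ∧
  v (.inr 0) * v (.inr 2) + v (.inl 0) * v (.inr 3) + (v (.inl 3) * v (.inl 2) - v (.inl 1) * v (.inl 1)) = 0 ∧
  v (.inr 0) * v (.inr 3) + v (.inl 0) * v (.inr 1) + (v (.inl 1) * v (.inl 3) - v (.inl 2) * v (.inl 2)) = 0 ∧
  v (.inr 0) * v (.inr 1) + v (.inl 0) * v (.inr 2) + (v (.inl 2) * v (.inl 1) - v (.inl 3) * v (.inl 3)) = 0

instance (v : Fin 4 ⊕ Fin 4 → ZMod 2) : Decidable (Z8 v) := by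
  unfold Z8
  infer_instance

theorem dia_zero_iff {F : Type u} [Field F] (v : V8 F) : dia (tauB F) v v = 0 ↔ Z8 v := by
  constructor
  · intro h
    have e := fun i => congrFun h i
    refine ⟨?_, ?_, ?_, ?_, ?_, ?_, ?_, ?_⟩
    · have := e (.inl 0); rw [dia_l0, Pi.zero_apply] at this; linear_combination this
    · have := e (.inl 1); rw [dia_l1, Pi.zero_apply] at this; linear_combination -this
    · have := e (.inl 2); rw [dia_l2, Pi.zero_apply] at this; linear_combination -this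
    · have := e (.inl 3); rw [dia_l3, Pi.zero_apply] at this; linear_combination -this
    · have := e (.inr 0); rw [dia_r0, Pi.zero_apply] at this; linear_combination this
    · have := e (.inr 1); rw [dia_r1, Pi.zero_apply] at this; linear_combination -this
    · have := e (.inr 2); rw [dia_r2, Pi.zero_apply] at this; linear_combination -this
    · have := e (.inr 3); rw [dia_r3, Pi.zero_apply] at this; linear_combination -this
  · rintro ⟨h0, h1, h2, h3, k0, k1, k2, k3⟩
    apply ext8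
    · rw [dia_l0, Pi.zero_apply]; linear_combination h0
    · rw [dia_l1, Pi.zero_apply]; linear_combination -h1
    · rw [dia_l2, Pi.zero_apply]; linear_combination -h2
    · rw [dia_l3, Pi.zero_apply]; linear_combination -h3
    · rw [dia_r0, Pi.zero_apply]; linear_combination k0
    · rw [dia_r1, Pi.zero_apply]; linear_combination -k1
    · rw [dia_r2, Pi.zero_apply]; linear_combination -k2
    · rw [dia_r3, Pi.zero_apply]; linear_combination -k3

set_option maxRecDepth 100000 in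
theorem card_nine : Fintype.card {v : Fin 4 ⊕ Fin 4 → ZMod 2 // v ≠ 0 ∧ Z8 v} = 9 := by
  decide +kernel

theorem z8_map {F : Type u} [Field F] (e : F ≃+* ZMod 2) (v : V8 F) : Z8 (fun i => e (v i)) ↔ Z8 v := by
  unfold Z8
  simp only [← map_mul, ← map_add, ← map_sub, EmbeddingLike.map_eq_zero_iff]

/-- a permutation of nine points of order prime to `6` has a fixed point -/
theorem exists_fixed {α : Type*} [Fintype α] [DecidableEq α] (h9 : Fintype.card α = 9) (σ : Equiv.Perm α) {m : ℕ}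
    (hm : m.Coprime 6) (hσ : σ ^ m = 1) : ∃ a, σ a = a := by
  by_contra hno
  push Not at hno
  have hsup : σ.support = Finset.univ := by
    ext a
    simp [hno a]
  have hsum : σ.cycleType.sum = 9 := by
    rw [Equiv.Perm.sum_cycleType, hsup, Finset.card_univ, h9]
  have h57 : ∀ n ∈ σ.cycleType, n ≤ 9 → 5 ≤ n ∧ n ≠ 9 ∧ n ≠ 8 ∧ n ≠ 6 := by
    intro n hn hn9
    have h2 := Equiv.Perm.two_le_of_mem_cycleType hn
    have h3 : n ∣ m := (Equiv.Perm.dvd_of_mem_cycleType hn).trans (orderOf_dvd_of_pow_eq_one hσ)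
    have h4 : n.Coprime 6 := Nat.Coprime.coprime_dvd_left h3 hm
    interval_cases n <;> revert h4 <;> decide
  obtain ⟨n, hn⟩ : ∃ n, n ∈ σ.cycleType := by
    apply Multiset.exists_mem_of_ne_zero
    intro h0
    rw [h0, Multiset.sum_zero] at hsum
    omega
  obtain ⟨t, ht⟩ := Multiset.exists_cons_of_mem hn
  have hs : n + t.sum = 9 := by rw [← hsum, ht, Multiset.sum_cons]
  have h5 := h57 n hn (by omega)
  rcases eq_or_ne t 0 with h0 | h0
  · rw [h0, Multiset.sum_zero] at hs
    omega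
  · obtain ⟨k, hk⟩ := Multiset.exists_mem_of_ne_zero h0
    have hkt : k ≤ t.sum := Multiset.le_sum_of_mem hk
    have hk' : k ∈ σ.cycleType := by rw [ht]; exact Multiset.mem_cons_of_mem hk
    have := h57 k hk' (by omega)
    omega

/-- **BOX TWO** -/
theorem two {F : Type u} [Field F] [Finite F] (h2 : Nat.card F = 2) {g : V8 F ≃ₗ[F] V8 F} (hg : Ex g)
    {m : ℕ} (hm : m.Coprime 6) (hgm : g ^ m = 1) : ∃ v : V8 F, v ≠ 0 ∧ g v = v ∧ dia (tauB F) v v = 0 := by
  classical
  have := Fintype.ofFinite F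
  have hc : Fintype.card F = 2 := by rw [← Nat.card_eq_fintype_card]; exact h2
  have e : F ≃+* ZMod 2 := (ZMod.ringEquivOfPrime F Nat.prime_two hc).symm
  let D : Type u := {v : V8 F // v ≠ 0 ∧ dia (tauB F) v v = 0}
  let φ : D ≃ {v : Fin 4 ⊕ Fin 4 → ZMod 2 // v ≠ 0 ∧ Z8 v} :=
    (Equiv.piCongrRight (fun _ : Fin 4 ⊕ Fin 4 => e.toEquiv)).subtypeEquiv fun v => by
      have h1 : (Equiv.piCongrRight (fun _ : Fin 4 ⊕ Fin 4 => e.toEquiv)) v = fun i => e (v i) := rfl
      rw [h1, z8_map e v, dia_zero_iff]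
      apply and_congr_left
      intro _
      apply not_congr
      constructor
      · rintro rfl
        funext i
        exact map_zero e
      · intro h
        funext i
        exact (map_eq_zero e).1 (congrFun h i)
  have h9 : Fintype.card D = 9 := by rw [Fintype.card_congr φ, ← card_nine]
  have hD : ∀ v : V8 F, (v ≠ 0 ∧ dia (tauB F) v v = 0) ↔ (g v ≠ 0 ∧ dia (tauB F) (g v) (g v) = 0) := by
    intro v
    rw [← hg, ne_eq, ne_eq, g.map_eq_zero_iff, g.map_eq_zero_iff]
  let σ : Equiv.Perm D := g.toEquiv.subtypeEquiv hD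
  have hσk : ∀ (k : ℕ) (d : D), ((σ ^ k) d : V8 F) = (g ^ k) (d : V8 F) := by
    intro k
    induction k with
    | zero => intro d; rfl
    | succ k ih =>
      intro d
      rw [pow_succ', pow_succ']
      change g ((σ ^ k) d : V8 F) = g ((g ^ k) (d : V8 F))
      rw [ih]
  have hσ : σ ^ m = 1 := by
    apply Equiv.ext
    intro d
    apply Subtype.ext
    rw [hσk, hgm]
    rfl
  obtain ⟨d, hd⟩ := exists_fixed h9 σ hm hσ
  exact ⟨d.1, d.2.1, congrArg Subtype.val hd, d.2.2⟩

end Cfsg.Agent.H499.RC
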